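import Groth.Agent.FFLib.Rational
import Groth.Agent.FFLib.Plucker
import Groth.Prelude.Def_LocRes
import Mathlib.RingTheory.PowerSeries.Trunc
import Mathlib.RingTheory.LaurentSeries

/-! Expansions at places of degree one in a uniformiser. -/

namespace Groth.Agent.FFLib

open FunFld WithZero Polynomial

variable {k K : Type*} [Field k] [Field K] [Algebra k K]

/-- `a` agrees with the power series of `x` in `t` up to degree `N`. -/
def IsClose (P : Place k K) (t x : K) (a : PowerSeries k) (N : ℕ) : Prop :=
  P.1 (x - aeval t (a.trunc N)) ≤ exp (-(N : ℤ))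

theorem val_aeval_le_one' (P : Place k K) {t : K} (ht : P.1 t ≤ 1) (p : k[X]) :
    P.1 (aeval t p) ≤ 1 := by
  induction p using Polynomial.induction_on' with
  | add a b ha hb => rw [map_add]; exact (P.1.map_add _ _).trans (max_le ha hb)
  | monomial n a =>
    rw [aeval_monomial, map_mul, map_pow]
    exact mul_le_one' (P.2.1 a) (pow_le_one' ht n)

theorem val_aeval_le_of_dvd (P : Place k K) {t : K} (ht : P.1 t = exp (-1 : ℤ)) {p : k[X]} {N : ℕ}
    (h : X ^ N ∣ p) : P.1 (aeval t p) ≤ exp (-(N : ℤ)) := by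
  obtain ⟨q, rfl⟩ := h
  rw [map_mul, map_mul, map_pow, map_pow, aeval_X, ht, ← exp_nsmul, nsmul_eq_mul, mul_neg_one]
  exact mul_le_of_le_one_right' (val_aeval_le_one' P (by rw [ht, ← exp_zero, exp_le_exp]; norm_num) q)

/-- A small value of a polynomial in a uniformiser forces low coefficients to vanish. -/
theorem dvd_of_val_aeval_le (P : Place k K) {t : K} (ht : P.1 t = exp (-1 : ℤ)) :
    ∀ (N : ℕ) {p : k[X]}, P.1 (aeval t p) ≤ exp (-(N : ℤ)) → X ^ N ∣ p := by
  intro N
  induction N with
  | zero => intro p _; exact (pow_zero (X : k[X])) ▸ one_dvd p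
  | succ N ih =>
    intro p hp
    have h0 : p.coeff 0 = 0 := by
      by_contra h0
      have ht1 : P.1 t ≤ 1 := by rw [ht, ← exp_zero, exp_le_exp]; norm_num
      have hsplit : aeval t p = algebraMap k K (p.coeff 0) + t * aeval t p.divX := by
        conv_lhs => rw [← p.divX_mul_X_add]
        rw [map_add, map_mul, aeval_X, aeval_C]
        ring
      have hlt : P.1 (t * aeval t p.divX) < P.1 (algebraMap k K (p.coeff 0)) := by
        rw [val_algebraMap P h0, map_mul, ht]
        exact (mul_le_of_le_one_right' (val_aeval_le_one' P ht1 _)).trans_lt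
          (by rw [← exp_zero, exp_lt_exp]; norm_num)
      rw [hsplit, P.1.map_add_eq_of_lt_left hlt, val_algebraMap P h0, ← exp_zero, exp_le_exp] at hp
      omega
    obtain ⟨q, rfl⟩ := X_dvd_iff.mpr h0
    rw [map_mul, aeval_X, map_mul, ht] at hp
    refine (pow_succ' (X : k[X]) N).symm ▸ mul_dvd_mul_left X (ih ?_)
    rw [show exp (-((N + 1 : ℕ) : ℤ)) = exp (-1 : ℤ) * exp (-(N : ℤ)) by
      rw [← exp_add]; congr 1; push_cast; ring] at hp
    exact le_of_mul_le_mul_left hp (zero_lt_iff.mpr exp_ne_zero)

theorem trunc_sub_trunc_dvd (a b : PowerSeries k) (N : ℕ)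
    (h : ∀ i < N, PowerSeries.coeff i a = PowerSeries.coeff i b) : a.trunc N = b.trunc N := by
  ext i
  rw [PowerSeries.coeff_trunc, PowerSeries.coeff_trunc]
  split_ifs with hi
  · exact h i hi
  · rfl

variable (hF : IsFF k K) {P : Place k K} (hP : P.deg = 1) {t : K} (ht : P.1 t = exp (-1 : ℤ))
include hF hP ht

theorem exists_digits {x : K} (hx : P.1 x ≤ 1) : ∃ a : PowerSeries k, ∀ N, IsClose P t x a N := by
  have ht0 : t ≠ 0 := fun e => by rw [e, map_zero] at ht; exact exp_ne_zero ht.symm
  have hstep : ∀ r : K, P.1 r ≤ 1 → ∃ c : k, P.1 ((r - algebraMap k K c) / t) ≤ 1 := fun r hr => by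
    obtain ⟨c, hc⟩ := exists_value hF hP hr
    refine ⟨c, ?_⟩
    rw [map_div₀, ht, div_le_one₀ (zero_lt_iff.mpr exp_ne_zero)]
    rcases eq_or_ne (r - algebraMap k K c) 0 with e | e
    · rw [e, map_zero]; exact zero_le'
    · rw [val_eq_exp P e, ← exp_zero, exp_lt_exp] at hc
      rw [val_eq_exp P e, exp_le_exp]
      omega
  choose c hc using fun r : {r : K // P.1 r ≤ 1} => hstep r.1 r.2
  let r : ℕ → {r : K // P.1 r ≤ 1} := fun n =>
    Nat.rec ⟨x, hx⟩ (fun _ s => ⟨((s : K) - algebraMap k K (c s)) / t, hc s⟩) n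
  refine ⟨PowerSeries.mk fun n => c (r n), fun N => ?_⟩
  have key : x - aeval t ((PowerSeries.mk fun n => c (r n)).trunc N) = t ^ N * (r N).1 := by
    induction N with
    | zero => simp [r]
    | succ N ih =>
      rw [PowerSeries.trunc_succ, map_add, aeval_monomial, PowerSeries.coeff_mk, ← sub_sub, ih,
        pow_succ]
      show _ = t ^ N * t * (((r N).1 - algebraMap k K (c (r N))) / t)
      field_simp
  rw [IsClose, key, map_mul, map_pow, ht, ← exp_nsmul, nsmul_eq_mul, mul_neg_one]
  exact mul_le_of_le_one_right' (r N).2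

omit hF hP in
theorem digits_unique {x : K} {a b : PowerSeries k} {N : ℕ} (ha : IsClose P t x a N)
    (hb : IsClose P t x b N) {i : ℕ} (hi : i < N) :
    PowerSeries.coeff i a = PowerSeries.coeff i b := by
  have h : P.1 (aeval t (b.trunc N - a.trunc N)) ≤ exp (-(N : ℤ)) := by
    rw [map_sub, show aeval t (b.trunc N) - aeval t (a.trunc N) =
      (x - aeval t (a.trunc N)) - (x - aeval t (b.trunc N)) by ring]
    exact (Valuation.map_sub _ _ _).trans (max_le ha hb)
  have := Polynomial.X_pow_dvd_iff.mp (dvd_of_val_aeval_le P ht N h) i hi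
  rw [Polynomial.coeff_sub, PowerSeries.coeff_trunc, PowerSeries.coeff_trunc, if_pos hi, if_pos hi,
    sub_eq_zero] at this
  exact this.symm

omit hF hP in
theorem digits_ext {x : K} {a b : PowerSeries k} (ha : ∀ N, IsClose P t x a N)
    (hb : ∀ N, IsClose P t x b N) : a = b :=
  PowerSeries.ext fun i => digits_unique ht (ha (i + 1)) (hb (i + 1)) (Nat.lt_succ_self i)

/-- Existence of an expansion in a given uniformiser. -/
theorem exists_expansion :
    ∃ φ : K →ₐ[k] LaurentSeries k, LocRes.IsExpansionAt P.1 φ ∧ φ t = HahnSeries.single 1 1 ∧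
      ∀ (x : K), P.1 x ≤ 1 → ∃ a : PowerSeries k, (∀ N, IsClose P t x a N) ∧ φ x = (a : LaurentSeries k) := by
  classical
  have ht1 : P.1 t ≤ 1 := by rw [ht, ← exp_zero, exp_le_exp]; norm_num
  choose d hd using fun x : P.O => exists_digits hF hP ht x.2
  let τ : P.O →+* PowerSeries k :=
    { toFun := d
      map_one' := by
        refine digits_ext ht (hd 1) fun N => ?_
        rcases N with _ | N
        · simp [IsClose]
        · simp [IsClose, PowerSeries.trunc_one]
      map_zero' := digits_ext ht (hd 0) fun N => by simp [IsClose]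
      map_add' := fun x y => digits_ext ht (hd (x + y)) fun N => by
        show P.1 ((x : K) + (y : K) - _) ≤ _
        rw [map_add, map_add,
          show (x : K) + y - (aeval t ((d x).trunc N) + aeval t ((d y).trunc N)) =
          ((x : K) - aeval t ((d x).trunc N)) + ((y : K) - aeval t ((d y).trunc N)) by ring]
        exact (P.1.map_add _ _).trans (max_le (hd x N) (hd y N))
      map_mul' := fun x y => digits_ext ht (hd (x * y)) fun N => by
        show P.1 ((x : K) * (y : K) - _) ≤ _
        set A := (d x).trunc N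
        set B := (d y).trunc N
        set C := (d x * d y).trunc N
        have hdvd : X ^ N ∣ A * B - C := by
          rw [Polynomial.X_pow_dvd_iff]
          intro i hi
          rw [Polynomial.coeff_sub, Polynomial.coeff_mul, PowerSeries.coeff_trunc, if_pos hi,
            PowerSeries.coeff_mul, sub_eq_zero]
          refine Finset.sum_congr rfl fun p hp => ?_
          rw [Finset.HasAntidiagonal.mem_antidiagonal] at hp
          rw [PowerSeries.coeff_trunc, if_pos (by omega), PowerSeries.coeff_trunc, if_pos (by omega)]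
        rw [show (x : K) * y - aeval t C = ((x : K) - aeval t A) * y +
          aeval t A * ((y : K) - aeval t B) + aeval t (A * B - C) by rw [map_sub, map_mul]; ring]
        refine (P.1.map_add _ _).trans (max_le ((P.1.map_add _ _).trans (max_le ?_ ?_))
          (val_aeval_le_of_dvd P ht hdvd))
        · rw [map_mul]; exact (mul_le_of_le_one_right' y.2).trans (hd x N)
        · rw [map_mul]; exact (mul_le_of_le_one_left' (val_aeval_le_one' P ht1 A)).trans (hd y N) }
  have hle : ∀ (x : P.O) (N : ℕ), P.1 (x : K) ≤ exp (-(N : ℤ)) ↔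
      ∀ i < N, PowerSeries.coeff i (τ x) = 0 := by
    intro x N
    refine ⟨fun h i hi => ?_, fun h => ?_⟩
    · refine (digits_unique ht (hd x N) (b := 0) ?_ hi).trans (map_zero _)
      simpa [IsClose] using h
    · have := hd x N
      rwa [IsClose, trunc_sub_trunc_dvd (d x) 0 N (fun i hi => (h i hi).trans (map_zero _).symm),
        map_zero, map_zero, sub_zero] at this
  let σ : P.O →+* LaurentSeries k := (HahnSeries.ofPowerSeries ℤ k).comp τ
  have hval : ∀ x : P.O, Valued.v (σ x) = P.1 (x : K) := by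
    intro x
    have hiff : ∀ N : ℕ, Valued.v (σ x) ≤ exp (-(N : ℤ)) ↔ P.1 (x : K) ≤ exp (-(N : ℤ)) := fun N =>
      (LaurentSeries.intValuation_le_iff_coeff_lt_eq_zero k (τ x)).trans (hle x N).symm
    have hle1 : Valued.v (σ x) ≤ 1 :=
      (LaurentSeries.val_le_one_iff_eq_coe k _).mpr ⟨τ x, rfl⟩
    have aux : ∀ {a b : WithZero (Multiplicative ℤ)}, a ≤ 1 → b ≤ 1 →
        (∀ N : ℕ, a ≤ exp (-(N : ℤ)) → b ≤ exp (-(N : ℤ))) → b ≤ a := by
      intro a b ha hb h
      rcases eq_or_ne a 0 with rfl | ha0
      · rcases eq_or_ne b 0 with rfl | hb0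
        · exact le_rfl
        exfalso
        obtain ⟨m, rfl⟩ : ∃ m, b = exp m := ⟨log b, (exp_log hb0).symm⟩
        have := h ((-m).toNat + 1) zero_le'
        rw [exp_le_exp] at this
        omega
      · obtain ⟨m, rfl⟩ : ∃ m, a = exp m := ⟨log a, (exp_log ha0).symm⟩
        rw [← exp_zero, exp_le_exp] at ha
        have := h (-m).toNat (by rw [exp_le_exp]; omega)
        exact this.trans (by rw [exp_le_exp]; omega)
    exact le_antisymm (aux x.2 hle1 fun N h => (hiff N).mpr h) (aux hle1 x.2 fun N h => (hiff N).mp h)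
  have hinj : Function.Injective σ := fun a b h => by
    have := hval (a - b)
    rw [map_sub, h, sub_self, map_zero] at this
    exact sub_eq_zero.mp (Subtype.ext ((map_eq_zero _).mp this.symm))
  let φr : K →+* LaurentSeries k := IsFractionRing.lift (A := P.O) (K := K) hinj
  have hφ : ∀ x : P.O, φr (x : K) = σ x := fun x => IsFractionRing.lift_algebraMap hinj x
  have hconst : ∀ c : k, φr (algebraMap k K c) = algebraMap k (LaurentSeries k) c := by
    intro c
    have hmem : P.1 (algebraMap k K c) ≤ 1 := P.2.1 c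
    rw [show algebraMap k K c = ((⟨_, hmem⟩ : P.O) : K) from rfl, hφ, HahnSeries.algebraMap_apply',
      PowerSeries.algebraMap_eq]
    show ((d ⟨_, hmem⟩ : PowerSeries k) : LaurentSeries k) = _
    congr 1
    refine digits_ext ht (hd _) fun N => ?_
    rcases N with _ | N
    · simpa [IsClose] using hmem
    · simp [IsClose, PowerSeries.trunc_C]
  let φ : K →ₐ[k] LaurentSeries k := { φr with commutes' := hconst }
  have hX : φ t = HahnSeries.single 1 1 := by
    show φr ((⟨t, ht1⟩ : P.O) : K) = _
    rw [hφ, ← PowerSeries.coe_X]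
    show ((d ⟨t, ht1⟩ : PowerSeries k) : LaurentSeries k) = _
    congr 1
    refine digits_ext ht (hd _) fun N => ?_
    rcases N with _ | _ | N
    · simpa [IsClose] using ht1
    · simp [IsClose, PowerSeries.trunc_succ, ht]
    · simp [IsClose, PowerSeries.trunc_X]
  refine ⟨φ, ⟨fun f => ?_, fun a => ⟨algebraMap k K a, P.2.1 a, ?_⟩, t, ht⟩, hX,
    fun x hx => ⟨d ⟨x, hx⟩, hd ⟨x, hx⟩, hφ ⟨x, hx⟩⟩⟩
  · obtain ⟨x, y, -, rfl⟩ := IsFractionRing.div_surjective (A := P.O) f
    show Valued.v (φr (algebraMap P.O K x / algebraMap P.O K y)) = _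
    rw [map_div₀, map_div₀, map_div₀]
    congr 1
    · exact (congrArg _ (hφ x)).trans (hval x)
    · exact (congrArg _ (hφ y)).trans (hval y)
  · rw [show φ (algebraMap k K a) = HahnSeries.C a from
      (φ.commutes a).trans (by rw [HahnSeries.algebraMap_apply', PowerSeries.algebraMap_eq,
        HahnSeries.ofPowerSeries_C]), HahnSeries.C_apply, HahnSeries.coeff_single_same]

end Groth.Agent.FFLib
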