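import Mathlib.RingTheory.Henselian
import Mathlib.RingTheory.AdicCompletion.Completeness
import Mathlib.RingTheory.PowerSeries.Inverse
import Mathlib.FieldTheory.PrimitiveElement
import Mathlib.FieldTheory.Separable

/-! Lifting and uniqueness of homomorphisms into power series along separable extensions. -/

namespace Groth.Agent.FFLib

open Polynomial

variable {L : Type*} [Field L]

/-- A simple root in `L⟦T⟧` is determined by its constant term. -/
theorem powerSeries_root_unique {g : Polynomial (PowerSeries L)} {a b : PowerSeries L}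
    (ha : g.eval a = 0) (hb : g.eval b = 0)
    (hab : PowerSeries.constantCoeff a = PowerSeries.constantCoeff b)
    (h' : PowerSeries.constantCoeff (g.derivative.eval a) ≠ 0) : a = b := by
  refine IsLocalRing.eq_of_eval_eq_zero_of_not_isUnit_sub ha hb ?_ ?_
  · rw [PowerSeries.isUnit_iff_constantCoeff, map_sub, hab, sub_self]
    exact not_isUnit_zero
  · exact PowerSeries.isUnit_iff_constantCoeff.mpr (isUnit_iff_ne_zero.mpr h')

/-- Existence of simple roots in `L⟦T⟧`. -/
theorem powerSeries_exists_root {g : Polynomial (PowerSeries L)} (hg : g.Monic) (a₀ : L)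
    (h : (g.map PowerSeries.constantCoeff).eval a₀ = 0)
    (h' : (g.map PowerSeries.constantCoeff).derivative.eval a₀ ≠ 0) :
    ∃ a : PowerSeries L, g.eval a = 0 ∧ PowerSeries.constantCoeff a = a₀ := by
  have hmem : ∀ z : PowerSeries L,
      z ∈ Ideal.span {(PowerSeries.X : PowerSeries L)} ↔ PowerSeries.constantCoeff z = 0 := fun z => by
    rw [Ideal.mem_span_singleton, PowerSeries.X_dvd_iff]
  have hev : ∀ q : Polynomial (PowerSeries L),
      PowerSeries.constantCoeff (q.eval (PowerSeries.C a₀)) =
        (q.map PowerSeries.constantCoeff).eval a₀ := fun q => by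
    rw [Polynomial.eval_map, ← Polynomial.eval₂_hom, PowerSeries.constantCoeff_C]
  obtain ⟨a, ha, ha'⟩ := HenselianRing.is_henselian
    (I := Ideal.span {(PowerSeries.X : PowerSeries L)}) g hg (PowerSeries.C a₀)
    ((hmem _).mpr (by rw [hev, h])) (by
      refine IsUnit.map _ (PowerSeries.isUnit_iff_constantCoeff.mpr (isUnit_iff_ne_zero.mpr ?_))
      rwa [hev, ← Polynomial.derivative_map])
  refine ⟨a, ha, ?_⟩
  have := (hmem _).mp ha'
  rwa [map_sub, PowerSeries.constantCoeff_C, sub_eq_zero] at this

variable {M K : Type*} [Field M] [Field K] [Algebra M K]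

/-- Homomorphisms into power series with the same constant terms agreeing below a separable
extension are equal. -/
theorem hom_ext_of_isSeparable [Algebra.IsSeparable M K] {f g : K →+* PowerSeries L}
    (hc : ∀ y, PowerSeries.constantCoeff (f y) = PowerSeries.constantCoeff (g y))
    (hM : ∀ m : M, f (algebraMap M K m) = g (algebraMap M K m)) : f = g := by
  refine RingHom.ext fun y => ?_
  have hcomp : f.comp (algebraMap M K) = g.comp (algebraMap M K) := RingHom.ext hM
  have hroot : ∀ u : K →+* PowerSeries L,
      ((minpoly M y).map (u.comp (algebraMap M K))).eval (u y) = 0 := fun u => by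
    rw [Polynomial.eval_map, ← Polynomial.hom_eval₂, ← Polynomial.aeval_def, minpoly.aeval, map_zero]
  refine powerSeries_root_unique (g := (minpoly M y).map (f.comp (algebraMap M K))) (hroot f)
    (by rw [hcomp]; exact hroot g) (hc y) ?_
  rw [Polynomial.derivative_map, Polynomial.eval_map, ← Polynomial.hom_eval₂, ← RingHom.comp_apply]
  refine (map_ne_zero (PowerSeries.constantCoeff.comp f)).mpr ?_
  rw [← Polynomial.aeval_def]
  exact (Algebra.IsSeparable.isSeparable M y).aeval_derivative_ne_zero (minpoly.aeval _ _)

/-- Homomorphisms into power series extend along finite separable extensions. -/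
theorem exists_hom_lift [FiniteDimensional M K] [Algebra.IsSeparable M K]
    (h : M →+* PowerSeries L) (ι : K →+* L)
    (hι : ∀ m : M, PowerSeries.constantCoeff (h m) = ι (algebraMap M K m)) :
    ∃ f : K →+* PowerSeries L,
      (∀ m : M, f (algebraMap M K m) = h m) ∧ ∀ y, PowerSeries.constantCoeff (f y) = ι y := by
  let pb := Field.powerBasisOfFiniteOfSeparable M K
  have hint : IsIntegral M pb.gen := IsIntegral.of_finite _ _
  have hmap : (minpoly M pb.gen).map (PowerSeries.constantCoeff.comp h) =
      (minpoly M pb.gen).map (ι.comp (algebraMap M K)) := by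
    congr 1; exact RingHom.ext hι
  obtain ⟨a, ha, ha'⟩ := powerSeries_exists_root ((minpoly.monic hint).map h) (ι pb.gen)
    (by
      rw [Polynomial.map_map, hmap, Polynomial.eval_map, ← Polynomial.hom_eval₂,
        ← Polynomial.aeval_def, minpoly.aeval, map_zero])
    (by
      rw [Polynomial.map_map, hmap, Polynomial.derivative_map, Polynomial.eval_map,
        ← Polynomial.hom_eval₂, ← Polynomial.aeval_def]
      exact (map_ne_zero ι).mpr
        ((Algebra.IsSeparable.isSeparable M pb.gen).aeval_derivative_ne_zero (minpoly.aeval _ _)))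
  letI : Algebra M (PowerSeries L) := h.toAlgebra
  let f := pb.lift a (by
    rw [Polynomial.aeval_def, ← Polynomial.eval_map]
    exact ha)
  refine ⟨f.toRingHom, fun m => f.commutes m, fun y => ?_⟩
  obtain ⟨q, -, rfl⟩ := pb.exists_eq_aeval y
  show PowerSeries.constantCoeff (f (Polynomial.aeval pb.gen q)) = _
  rw [← Polynomial.aeval_algHom_apply, pb.lift_gen, Polynomial.aeval_def, Polynomial.aeval_def,
    Polynomial.hom_eval₂, Polynomial.hom_eval₂, ha']
  congr 1
  exact RingHom.ext hι

end Groth.Agent.FFLib
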