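import Groth.Prelude.Def_LocRes
import Mathlib.Algebra.Polynomial.HasseDeriv
import Mathlib.RingTheory.PowerSeries.Trunc
import Mathlib.RingTheory.PowerSeries.Inverse
import Mathlib.RingTheory.LaurentSeries

/-! The Taylor homomorphism of Laurent series. -/

namespace Groth.Agent.FFLib

open Finset

variable {L : Type*} [Field L]

/-- The `n`-th Hasse derivative of a power series. -/
noncomputable def psHasse (n : ℕ) (f : PowerSeries L) : PowerSeries L :=
  PowerSeries.mk fun m => ((m + n).choose n : L) * PowerSeries.coeff (m + n) f

theorem coeff_psHasse (n m : ℕ) (f : PowerSeries L) :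
    PowerSeries.coeff m (psHasse n f) = ((m + n).choose n : L) * PowerSeries.coeff (m + n) f :=
  PowerSeries.coeff_mk _ _

theorem psHasse_trunc {n m N : ℕ} (h : m + n < N) (f : PowerSeries L) :
    PowerSeries.coeff m (psHasse n f) = (Polynomial.hasseDeriv n (f.trunc N)).coeff m := by
  rw [coeff_psHasse, Polynomial.hasseDeriv_coeff, PowerSeries.coeff_trunc, if_pos h]

/-- The Taylor homomorphism on power series. -/
noncomputable def psTaylor : PowerSeries L →+* PowerSeries (PowerSeries L) where
  toFun f := PowerSeries.mk fun n => psHasse n f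
  map_one' := PowerSeries.ext fun n => PowerSeries.ext fun m => by
    rw [PowerSeries.coeff_mk, coeff_psHasse, PowerSeries.coeff_one, PowerSeries.coeff_one]
    rcases n with _ | n
    · simp [PowerSeries.coeff_one]
    · rw [if_neg (by omega), if_neg (by omega), mul_zero, map_zero]
  map_zero' := PowerSeries.ext fun n => PowerSeries.ext fun m => by
    simp [PowerSeries.coeff_mk, coeff_psHasse]
  map_add' f g := PowerSeries.ext fun n => PowerSeries.ext fun m => by
    simp [PowerSeries.coeff_mk, coeff_psHasse, mul_add]
  map_mul' f g := PowerSeries.ext fun n => PowerSeries.ext fun m => by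
    rw [PowerSeries.coeff_mk, PowerSeries.coeff_mul, map_sum]
    set N := m + n + 1
    have h1 : PowerSeries.coeff m (psHasse n (f * g)) =
        (Polynomial.hasseDeriv n (f.trunc N * g.trunc N)).coeff m := by
      rw [coeff_psHasse, Polynomial.hasseDeriv_coeff, PowerSeries.coeff_mul, Polynomial.coeff_mul]
      congr 1
      refine Finset.sum_congr rfl fun p hp => ?_
      rw [Finset.HasAntidiagonal.mem_antidiagonal] at hp
      rw [PowerSeries.coeff_trunc, if_pos (by omega), PowerSeries.coeff_trunc, if_pos (by omega)]
    rw [h1, Polynomial.hasseDeriv_mul, Polynomial.finsetSum_coeff]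
    refine Finset.sum_congr rfl fun ij hij => ?_
    rw [Finset.HasAntidiagonal.mem_antidiagonal] at hij
    rw [PowerSeries.coeff_mk, PowerSeries.coeff_mk, PowerSeries.coeff_mul, Polynomial.coeff_mul]
    refine Finset.sum_congr rfl fun p hp => ?_
    rw [Finset.HasAntidiagonal.mem_antidiagonal] at hp
    rw [psHasse_trunc (N := N) (by omega), psHasse_trunc (N := N) (by omega)]

theorem psTaylor_constantCoeff (f : PowerSeries L) :
    PowerSeries.constantCoeff (psTaylor f) = f := by
  rw [← PowerSeries.coeff_zero_eq_constantCoeff_apply]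
  show PowerSeries.coeff 0 (PowerSeries.mk fun n => psHasse n f) = f
  ext m
  rw [PowerSeries.coeff_mk, coeff_psHasse, Nat.choose_zero_right, Nat.cast_one, one_mul, add_zero]

theorem constantCoeff_map' {R S : Type*} [CommRing R] [CommRing S] (g : R →+* S) (f : PowerSeries R) :
    PowerSeries.constantCoeff (PowerSeries.map g f) = g (PowerSeries.constantCoeff f) := by
  rw [← PowerSeries.coeff_zero_eq_constantCoeff_apply, PowerSeries.coeff_map,
    PowerSeries.coeff_zero_eq_constantCoeff_apply]

/-- The composite to series over Laurent series. -/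
noncomputable def psTaylorL : PowerSeries L →+* PowerSeries (LaurentSeries L) :=
  (PowerSeries.map (HahnSeries.ofPowerSeries ℤ L)).comp psTaylor

theorem psTaylorL_isUnit (y : nonZeroDivisors (PowerSeries L)) : IsUnit (psTaylorL (y : PowerSeries L)) := by
  rw [PowerSeries.isUnit_iff_constantCoeff, psTaylorL, RingHom.comp_apply,
    constantCoeff_map', psTaylor_constantCoeff, isUnit_iff_ne_zero]
  exact fun h => nonZeroDivisors.coe_ne_zero y
    (HahnSeries.ofPowerSeries_injective (h.trans (map_zero _).symm))

/-- The Taylor homomorphism `f(X) ↦ f(X + T)` of Laurent series. -/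
noncomputable def taylor : LaurentSeries L →+* PowerSeries (LaurentSeries L) :=
  IsLocalization.lift (M := nonZeroDivisors (PowerSeries L)) psTaylorL_isUnit

theorem taylor_coe (f : PowerSeries L) :
    taylor (f : LaurentSeries L) = PowerSeries.map (HahnSeries.ofPowerSeries ℤ L) (psTaylor f) := by
  rw [← LaurentSeries.coe_algebraMap]
  unfold taylor
  rw [IsLocalization.lift_eq]
  rfl

theorem taylor_constantCoeff (f : LaurentSeries L) : PowerSeries.constantCoeff (taylor f) = f := by
  have h : (PowerSeries.constantCoeff.comp taylor : LaurentSeries L →+* LaurentSeries L) =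
      RingHom.id (LaurentSeries L) := IsLocalization.ringHom_ext (nonZeroDivisors (PowerSeries L))
    (RingHom.ext fun g => by
      show PowerSeries.constantCoeff (taylor (g : LaurentSeries L)) = (g : LaurentSeries L)
      rw [taylor_coe, constantCoeff_map', psTaylor_constantCoeff])
  exact RingHom.congr_fun h f

/-- On power series the Taylor coefficients are the Hasse derivatives. -/
theorem coeff_taylor_coe (n : ℕ) (f : PowerSeries L) :
    PowerSeries.coeff n (taylor (f : LaurentSeries L)) =
      LaurentSeries.hasseDeriv L n (f : LaurentSeries L) := by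
  rw [taylor_coe, PowerSeries.coeff_map]
  show ((PowerSeries.coeff n (PowerSeries.mk fun i => psHasse i f) : PowerSeries L) : LaurentSeries L) = _
  rw [PowerSeries.coeff_mk]
  ext j
  rw [LaurentSeries.hasseDeriv_coeff, PowerSeries.coeff_coe, PowerSeries.coeff_coe]
  rcases lt_or_ge j 0 with hj | hj
  · rw [if_pos hj]
    split_ifs with hjn
    · rw [smul_zero]
    · obtain ⟨i, hi⟩ : ∃ i : ℕ, j + n = i := ⟨(j + n).toNat, by omega⟩
      rw [hi, Ring.choose_natCast, Nat.choose_eq_zero_of_lt (by omega), Nat.cast_zero, zero_smul]
  · obtain ⟨i, rfl⟩ : ∃ i : ℕ, j = i := ⟨j.toNat, by omega⟩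
    rw [if_neg (by omega), if_neg (by omega), ← Nat.cast_add, Ring.choose_natCast,
      Int.natAbs_natCast, Int.natAbs_natCast, coeff_psHasse, Nat.cast_smul_eq_nsmul, nsmul_eq_mul]

/-- The first Taylor coefficient is the derivative. -/
theorem coeff_one_taylor (f : LaurentSeries L) :
    PowerSeries.coeff 1 (taylor f) = LocRes.D L f := by
  obtain ⟨a, ⟨b, hb⟩, hab⟩ := IsLocalization.exists_mk'_eq (nonZeroDivisors (PowerSeries L)) f
  rw [IsLocalization.mk'_eq_iff_eq_mul] at hab
  have hps : ∀ g : PowerSeries L, PowerSeries.coeff 1 (taylor (g : LaurentSeries L)) =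
      LocRes.D L (g : LaurentSeries L) := fun g => by
    rw [coeff_taylor_coe, LocRes.D_apply, LaurentSeries.derivative_apply]
  change (a : LaurentSeries L) = f * (b : LaurentSeries L) at hab
  have h1 := congrArg (fun g => PowerSeries.coeff 1 (taylor g)) hab
  simp only [map_mul] at h1
  rw [PowerSeries.coeff_one_mul, taylor_constantCoeff, taylor_constantCoeff, hps, hps] at h1
  have h2 : LocRes.D L (a : LaurentSeries L) =
      f * LocRes.D L (b : LaurentSeries L) + (b : LaurentSeries L) * LocRes.D L f := by
    rw [hab, Derivation.leibniz, smul_eq_mul, smul_eq_mul]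
  have hb0 : (b : LaurentSeries L) ≠ 0 := fun h =>
    nonZeroDivisors.coe_ne_zero ⟨b, hb⟩ (HahnSeries.ofPowerSeries_injective (h.trans (map_zero _).symm))
  refine mul_left_cancel₀ hb0 ?_
  linear_combination h2 - h1

/-- The image of the variable. -/
theorem taylor_X : taylor (HahnSeries.single 1 1 : LaurentSeries L) =
    PowerSeries.C (HahnSeries.single 1 1) + PowerSeries.X := by
  rw [← PowerSeries.coe_X, taylor_coe]
  have : psTaylor (PowerSeries.X : PowerSeries L) = PowerSeries.C PowerSeries.X + PowerSeries.X := by
    refine PowerSeries.ext fun n => PowerSeries.ext fun m => ?_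
    show PowerSeries.coeff m (PowerSeries.coeff n (PowerSeries.mk fun i => psHasse i PowerSeries.X)) = _
    rw [PowerSeries.coeff_mk, coeff_psHasse, map_add, PowerSeries.coeff_C, PowerSeries.coeff_X,
      PowerSeries.coeff_X]
    rcases n with _ | _ | n
    · simp [PowerSeries.coeff_X]
    · rcases m with _ | m <;> simp
    · simp
      intro h; omega
  rw [this, map_add, PowerSeries.map_C, PowerSeries.map_X, PowerSeries.coe_X]

theorem taylor_C (c : L) : taylor (HahnSeries.C c : LaurentSeries L) =
    PowerSeries.C (HahnSeries.C c) := by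
  rw [← HahnSeries.ofPowerSeries_C, taylor_coe]
  have : psTaylor (PowerSeries.C c : PowerSeries L) = PowerSeries.C (PowerSeries.C c) := by
    refine PowerSeries.ext fun n => PowerSeries.ext fun m => ?_
    show PowerSeries.coeff m (PowerSeries.coeff n (PowerSeries.mk fun i => psHasse i (PowerSeries.C c))) = _
    rw [PowerSeries.coeff_mk, coeff_psHasse, PowerSeries.coeff_C, PowerSeries.coeff_C]
    rcases n with _ | n
    · simp [PowerSeries.coeff_C]
    · simp
  rw [this, PowerSeries.map_C]

end Groth.Agent.FFLib
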