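import Groth.Agent.FFLib.Geometric
import Groth.Agent.FFLib.Local.Root
import Groth.Agent.FFLib.Local.Taylor
import Mathlib.FieldTheory.RatFunc.AsPolynomial
import Mathlib.RingTheory.PowerSeries.Substitution

/-! Hasse derivatives of function fields. -/

namespace Groth.Agent.FFLib

open FunFld IntermediateField

universe u v

variable {k : Type u} {K : Type v} [Field k] [Field K] [Algebra k K]

theorem isGeometric_of_perfect [PerfectField k] (hK : IsFunctionField k K) : IsGeometric k K :=
  fun k' _ _ hfin => by
    haveI := hfin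
    exact isField_tensor_of_isSeparable hK k'

/-- The variable of a Hasse family is a separating element. -/
theorem hasse_separating (hK : IsFunctionField k K) (hg : IsGeometric k K) {s : K}
    {H : K →ₐ[k] PowerSeries K} (hH : LocRes.IsHasseFamily s H) :
    Transcendental k s ∧ Algebra.IsSeparable k⟮s⟯ K := by
  have h1 : PowerSeries.coeff 1 (H s) = 1 := by rw [hH.1]; simp [PowerSeries.coeff_C]
  have htr : Transcendental k s := fun h => by
    obtain ⟨c, rfl⟩ := hK.2 s h
    rw [H.commutes, PowerSeries.algebraMap_apply] at h1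
    simp [PowerSeries.coeff_C] at h1
  refine ⟨htr, ?_⟩
  haveI := IsFF.finite_adjoin hK.1 htr
  obtain h0 | ⟨p, hp, hpk⟩ := CharP.exists' k
  · haveI := h0
    haveI : CharZero k⟮s⟯ := charZero_of_injective_algebraMap (algebraMap k k⟮s⟯).injective
    infer_instance
  · haveI : CharP K p := charP_of_injective_algebraMap (algebraMap k K).injective p
    obtain ⟨x, hx, hsep⟩ := exists_separating_element hK hg
    refine isSeparable_of_notMem p hK hx hsep fun hs => ?_
    have hzero : ∀ z ∈ powField k K p, PowerSeries.coeff 1 (H z) = 0 := by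
      intro z hz
      induction hz using IntermediateField.adjoin_induction with
      | mem a ha =>
        obtain ⟨a, rfl⟩ := ha
        rw [map_pow, PowerSeries.coeff_one_pow, CharP.cast_eq_zero, zero_mul, zero_mul]
      | algebraMap c => rw [H.commutes, PowerSeries.algebraMap_apply]; simp [PowerSeries.coeff_C]
      | add a b _ _ ha hb => rw [map_add, map_add, ha, hb, add_zero]
      | inv a _ ha =>
        rcases eq_or_ne a 0 with rfl | h0
        · simp
        have hmul := congrArg (PowerSeries.coeff 1) (map_mul H a a⁻¹)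
        rw [mul_inv_cancel₀ h0, map_one, PowerSeries.coeff_one, if_neg one_ne_zero,
          PowerSeries.coeff_one_mul, hH.2, hH.2, ha, zero_mul, zero_add] at hmul
        exact (mul_eq_zero.mp hmul.symm).resolve_right h0
      | mul a b _ _ ha hb => rw [map_mul, PowerSeries.coeff_one_mul, ha, hb, zero_mul, zero_mul, add_zero]
    exact one_ne_zero (h1.symm.trans (hzero s hs))

/-- Homomorphisms into power series agreeing on a separating element are equal. -/
theorem hom_ext_sep {L : Type*} [Field L] {s : K} [Algebra.IsSeparable k⟮s⟯ K]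
    {f g : K →+* PowerSeries L}
    (hc : ∀ y, PowerSeries.constantCoeff (f y) = PowerSeries.constantCoeff (g y))
    (hk : ∀ c : k, f (algebraMap k K c) = g (algebraMap k K c)) (hs : f s = g s) : f = g := by
  refine hom_ext_of_isSeparable (M := k⟮s⟯) hc fun m => ?_
  obtain ⟨m, hm⟩ := m
  show f m = g m
  induction hm using IntermediateField.adjoin_induction with
  | mem a ha => rw [Set.mem_singleton_iff.mp ha]; exact hs
  | algebraMap c => exact hk c
  | add a b _ _ ha hb => rw [map_add, map_add, ha, hb]
  | inv a _ ha =>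
    rcases eq_or_ne a 0 with rfl | h0
    · simp
    have e1 : f a⁻¹ * f a = 1 := by rw [← map_mul, inv_mul_cancel₀ h0, map_one]
    have e2 : g a * g a⁻¹ = 1 := by rw [← map_mul, mul_inv_cancel₀ h0, map_one]
    exact left_inv_eq_right_inv (ha ▸ e1) e2
  | mul a b _ _ ha hb => rw [map_mul, map_mul, ha, hb]

/-- Hasse families are unique. -/
theorem hasse_unique (hK : IsFunctionField k K) (hg : IsGeometric k K) {s : K}
    {H H' : K →ₐ[k] PowerSeries K} (hH : LocRes.IsHasseFamily s H) (hH' : LocRes.IsHasseFamily s H') :
    H = H' := by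
  haveI := (hasse_separating hK hg hH).2
  exact AlgHom.coe_ringHom_injective (hom_ext_sep (k := k) (s := s)
    (fun y => (hH.2 y).trans (hH'.2 y).symm)
    (fun c => (H.commutes c).trans (H'.commutes c).symm) (hH.1.trans hH'.1.symm))

/-- Hasse families exist for separating elements. -/
theorem exists_hasse (hK : IsFunctionField k K) {s : K} (hs : Transcendental k s)
    (hsep : Algebra.IsSeparable k⟮s⟯ K) : ∃ H : K →ₐ[k] PowerSeries K, LocRes.IsHasseFamily s H := by
  haveI := IsFF.finite_adjoin hK.1 hs
  let g : Polynomial k →+* PowerSeries K :=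
    (Polynomial.aeval (PowerSeries.C s + PowerSeries.X : PowerSeries K)).toRingHom
  have hg : ∀ q : Polynomial k, PowerSeries.constantCoeff (g q) = Polynomial.aeval s q := fun q => by
    show PowerSeries.constantCoeff (Polynomial.aeval (PowerSeries.C s + PowerSeries.X) q) = _
    rw [Polynomial.aeval_def, Polynomial.hom_eval₂, Polynomial.aeval_def]
    rw [show PowerSeries.constantCoeff.comp (algebraMap k (PowerSeries K)) = algebraMap k K from
      RingHom.ext fun c => by simp [PowerSeries.algebraMap_apply]]
    simp
  have hu : ∀ y : nonZeroDivisors (Polynomial k), IsUnit (g y) := fun y => by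
    rw [PowerSeries.isUnit_iff_constantCoeff, hg, isUnit_iff_ne_zero]
    exact fun h => nonZeroDivisors.coe_ne_zero y (transcendental_iff.mp hs _ h)
  let e : RatFunc k ≃ₐ[k] k⟮s⟯ := RatFunc.algEquivOfTranscendental s hs
  let G : RatFunc k →+* PowerSeries K := IsLocalization.lift (M := nonZeroDivisors (Polynomial k)) hu
  let h : k⟮s⟯ →+* PowerSeries K := G.comp (e.symm : k⟮s⟯ →+* RatFunc k)
  have hG : ∀ q : Polynomial k, G (algebraMap (Polynomial k) (RatFunc k) q) = g q := fun q =>
    IsLocalization.lift_eq hu q
  have hι : ∀ m : k⟮s⟯, PowerSeries.constantCoeff (h m) = RingHom.id K (algebraMap k⟮s⟯ K m) := by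
    intro m
    obtain ⟨r, rfl⟩ := e.surjective m
    have : (PowerSeries.constantCoeff.comp G : RatFunc k →+* K) =
        (algebraMap k⟮s⟯ K).comp (e : RatFunc k →+* k⟮s⟯) :=
      IsLocalization.ringHom_ext (nonZeroDivisors (Polynomial k)) (RingHom.ext fun q => by
        show PowerSeries.constantCoeff (G (algebraMap _ _ q)) = algebraMap k⟮s⟯ K (e (algebraMap _ _ q))
        rw [hG, hg, RatFunc.algEquivOfTranscendental_algebraMap]
        simp)
    show PowerSeries.constantCoeff (G (e.symm (e r))) = _
    rw [e.symm_apply_apply]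
    exact RingHom.congr_fun this r
  obtain ⟨f, hf, hf'⟩ := exists_hom_lift h (RingHom.id K) hι
  have hfq : ∀ q : Polynomial k, f (Polynomial.aeval s q) = g q := by
    intro q
    have : Polynomial.aeval s q = algebraMap k⟮s⟯ K (e (algebraMap (Polynomial k) (RatFunc k) q)) := by
      rw [RatFunc.algEquivOfTranscendental_algebraMap]; simp
    rw [this, hf]
    show G (e.symm (e _)) = _
    rw [e.symm_apply_apply, hG]
  refine ⟨{ f with commutes' := fun c => ?_ }, ?_, hf'⟩
  · have := hfq (Polynomial.C c)
    rw [Polynomial.aeval_C] at this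
    show f (algebraMap k K c) = _
    rw [this]
    exact Polynomial.aeval_C _ c
  · have := hfq Polynomial.X
    rw [Polynomial.aeval_X] at this
    show f s = _
    rw [this]
    exact Polynomial.aeval_X _

/-- Chain rule for Hasse families. -/
theorem hasse_chain (hK : IsFunctionField k K) (hg : IsGeometric k K) {s : K}
    {Hs Ht : K →ₐ[k] PowerSeries K} (hs : LocRes.IsHasseFamily s Hs)
    (ht : ∀ y : K, PowerSeries.constantCoeff (Ht y) = y) (y : K) :
    Ht y = PowerSeries.subst (Ht s - PowerSeries.C s) (Hs y) := by
  haveI := (hasse_separating hK hg hs).2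
  have hu : PowerSeries.HasSubst (Ht s - PowerSeries.C s) :=
    PowerSeries.HasSubst.of_constantCoeff_zero' (by rw [map_sub, ht, PowerSeries.constantCoeff_C, sub_self])
  have hC : ∀ c : K, (PowerSeries.substAlgHom (R := K) hu) (PowerSeries.C c) = PowerSeries.C c := fun c =>
    AlgHom.commutes _ c
  refine RingHom.congr_fun (hom_ext_sep (k := k) (s := s) (f := (Ht : K →+* PowerSeries K))
    (g := ((PowerSeries.substAlgHom (R := K) hu : PowerSeries K →ₐ[K] PowerSeries K) :
      PowerSeries K →+* PowerSeries K).comp (Hs : K →+* PowerSeries K)) ?_ ?_ ?_) y |>.trans ?_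
  · intro z
    obtain ⟨w, hw⟩ : ∃ w, Hs z = PowerSeries.C z + PowerSeries.X * w := by
      refine ⟨PowerSeries.mk fun n => PowerSeries.coeff (n + 1) (Hs z), ?_⟩
      conv_lhs => rw [PowerSeries.eq_X_mul_shift_add_const (Hs z), hs.2]
      rw [add_comm]
    show PowerSeries.constantCoeff (Ht z) =
      PowerSeries.constantCoeff (PowerSeries.substAlgHom (R := K) hu (Hs z))
    rw [ht, hw, map_add, hC, map_mul, PowerSeries.substAlgHom_X hu, map_add, map_mul,
      PowerSeries.constantCoeff_C, map_sub, ht, PowerSeries.constantCoeff_C, sub_self, zero_mul, add_zero]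
  · intro c
    show Ht (algebraMap k K c) = PowerSeries.substAlgHom (R := K) hu (Hs (algebraMap k K c))
    rw [Ht.commutes, Hs.commutes, PowerSeries.algebraMap_apply, hC]
  · show Ht s = PowerSeries.substAlgHom (R := K) hu (Hs s)
    rw [hs.1, map_add, hC, PowerSeries.substAlgHom_X hu]
    ring
  · show PowerSeries.substAlgHom (R := K) hu (Hs y) = _
    rw [PowerSeries.coe_substAlgHom hu]

/-- Hasse derivatives commute with expansions. -/
theorem hasse_taylor (hK : IsFunctionField k K) (hg : IsGeometric k K) {F : Type*} [Field F]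
    [Algebra k F] (φ : K →ₐ[k] LaurentSeries F) {t : K} (ht : φ t = HahnSeries.single 1 1)
    {H : K →ₐ[k] PowerSeries K} (hH : LocRes.IsHasseFamily t H) (x : K) :
    PowerSeries.map (φ : K →+* LaurentSeries F) (H x) = taylor (φ x) := by
  haveI := (hasse_separating hK hg hH).2
  refine RingHom.congr_fun (hom_ext_sep (k := k) (s := t)
    (f := (PowerSeries.map (φ : K →+* LaurentSeries F)).comp (H : K →+* PowerSeries K))
    (g := taylor.comp (φ : K →+* LaurentSeries F)) ?_ ?_ ?_) x
  · intro y
    show PowerSeries.constantCoeff (PowerSeries.map _ (H y)) = PowerSeries.constantCoeff (taylor (φ y))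
    rw [constantCoeff_map', hH.2, taylor_constantCoeff]
    rfl
  · intro c
    show PowerSeries.map _ (H (algebraMap k K c)) = taylor (φ (algebraMap k K c))
    rw [H.commutes, PowerSeries.algebraMap_apply, PowerSeries.map_C, LocRes.map_algebraMap, taylor_C]
    exact congrArg PowerSeries.C (LocRes.map_algebraMap φ c)
  · show PowerSeries.map _ (H t) = taylor (φ t)
    rw [hH.1, map_add, PowerSeries.map_C, PowerSeries.map_X, ht, taylor_X]
    exact congrArg (fun z => PowerSeries.C z + PowerSeries.X) ht

/-- The first Hasse derivative is the derivative of the expansion. -/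
theorem map_hasseD_one (hK : IsFunctionField k K) (hg : IsGeometric k K) {F : Type*} [Field F]
    [Algebra k F] (φ : K →ₐ[k] LaurentSeries F) {t : K} (ht : φ t = HahnSeries.single 1 1)
    {H : K →ₐ[k] PowerSeries K} (hH : LocRes.IsHasseFamily t H) (x : K) :
    φ (LocRes.hasseD H 1 x) = LocRes.D F (φ x) := by
  rw [← coeff_one_taylor, ← hasse_taylor hK hg φ ht hH x, PowerSeries.coeff_map]
  rfl

/-- Hasse derivatives of regular functions read through an expansion. -/
theorem map_hasseD (hK : IsFunctionField k K) (hg : IsGeometric k K) {F : Type*} [Field F]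
    [Algebra k F] (φ : K →ₐ[k] LaurentSeries F) {t : K} (ht : φ t = HahnSeries.single 1 1)
    {H : K →ₐ[k] PowerSeries K} (hH : LocRes.IsHasseFamily t H) {x : K} (hx : Valued.v (φ x) ≤ 1)
    (n : ℕ) : φ (LocRes.hasseD H n x) = LaurentSeries.hasseDeriv F n (φ x) := by
  obtain ⟨f, hf⟩ := (LaurentSeries.val_le_one_iff_eq_coe F _).mp hx
  have h := congrArg (PowerSeries.coeff n) (hasse_taylor hK hg φ ht hH x)
  rw [PowerSeries.coeff_map, ← hf, coeff_taylor_coe, hf] at h
  exact h

end Groth.Agent.FFLib
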